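import Groth.Agent.AlgSp.K644.CohAff
import Groth.Agent.AlgSp.K644.ChartFin
import Groth.Agent.AlgSp.K648.Noeth

/-!
# Coherent modules on locally Noetherian algebraic spaces

On a locally Noetherian space the sections of a module of finite presentation over an affine object
form a finite module over a Noetherian ring.
-/

set_option autoImplicit false

universe u

open CategoryTheory CategoryTheory.Limits AlgebraicGeometry Opposite

namespace K751.Coh

open AlgSp K644.Site K644.Psh K644.Exact K644.EtSite K644.QCoh K644.Chart K644.Fin K644.ChartFin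
  K644.Ses Groth.Agent.Etbase.FFExact

variable {S : Scheme.{u}} {X : Sp S}

theorem isNoetherianRing (hX : IsLocNoethSp X) (E : EtOver X) (hE : IsAffine E.obj.left.left) :
    IsNoetherianRing Γ((EtOver.toScheme X).obj E, ⊤) := by
  have h := K648.Noeth.isLocallyNoetherian_of_chart hX E
  exact h.component_noetherian ⟨⊤, @isAffineOpen_top _ hE⟩

/-- Modules of finite presentation on a locally Noetherian space. -/
theorem isFinitePresentation_iff (hX : IsLocNoethSp X) (M : ModEt X) :
    M.IsFinitePresentation ↔ M.IsQuasicoherent ∧ ∀ E : EtOver X, IsAffine E.obj.left.left →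
      Module.Finite Γ((EtOver.toScheme X).obj E, ⊤) (sec M E) := by
  rw [K644.Fin.isFinitePresentation_iff (EtOver.toScheme X) M,
    ← isQuasicoherent_iff (EtOver.toScheme X)]
  refine and_congr Iff.rfl (forall_congr' fun E => forall_congr' fun hE => ?_)
  have := isNoetherianRing hX E hE
  exact ⟨fun _ => inferInstance, fun _ => Module.finitePresentation_of_finite _ _⟩

theorem isQuasicoherent (M : ModEt X) [M.IsFinitePresentation] : M.IsQuasicoherent := inferInstance

theorem finite_sec (M : ModEt X) [M.IsFinitePresentation] (E : EtOver X)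
    (hE : IsAffine E.obj.left.left) :
    Module.Finite Γ((EtOver.toScheme X).obj E, ⊤) (sec M E) :=
  have := ((K644.Fin.isFinitePresentation_iff (EtOver.toScheme X) M).1 inferInstance).2 E hE
  inferInstance

theorem isFinitePresentation_of_isFiniteType (hX : IsLocNoethSp X) (M : ModEt X)
    [M.IsQuasicoherent] [M.IsFiniteType] : M.IsFinitePresentation :=
  (isFinitePresentation_iff hX M).2 ⟨inferInstance, fun _ hE => K644.ChartFin.finite_sec M hE⟩

theorem isNoetherian_sec (hX : IsLocNoethSp X) (M : ModEt X) [M.IsFinitePresentation]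
    (E : EtOver X) (hE : IsAffine E.obj.left.left) :
    IsNoetherian Γ((EtOver.toScheme X).obj E, ⊤) (sec M E) := by
  have := isNoetherianRing hX E hE
  have := finite_sec M E hE
  exact isNoetherian_of_isNoetherianRing_of_finite _ _

/-- Submodules of coherent modules. -/
theorem isFinitePresentation_of_injective (hX : IsLocNoethSp X) {M N : ModEt X}
    [M.IsFinitePresentation] [N.IsQuasicoherent] (ι : N ⟶ M)
    (h : ∀ E : EtOver X, IsAffine E.obj.left.left →
      Function.Injective (smap (EtOver.toScheme X) ι E)) : N.IsFinitePresentation := by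
  refine (isFinitePresentation_iff hX N).2 ⟨inferInstance, fun E hE => ?_⟩
  have := isNoetherianRing hX E hE
  have := isNoetherian_sec hX M E hE
  have := isNoetherian_of_injective (smap (EtOver.toScheme X) ι E) (h E hE)
  infer_instance

theorem injective_of_mono {M N : ModEt X} (ι : N ⟶ M) [Mono ι] (E : EtOver X) :
    Function.Injective (smap (EtOver.toScheme X) ι E) :=
  (ModuleCat.mono_iff_injective ((SheafOfModules.evaluation (OEtRing X) (op E)).map ι)).1
    inferInstance

theorem isFinitePresentation_of_mono (hX : IsLocNoethSp X) {M N : ModEt X}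
    [M.IsFinitePresentation] [N.IsQuasicoherent] (ι : N ⟶ M) [Mono ι] : N.IsFinitePresentation :=
  isFinitePresentation_of_injective hX ι fun E _ => injective_of_mono ι E

/-- Quotients of coherent modules. -/
theorem isFinitePresentation_of_epi (hX : IsLocNoethSp X) {M Q : ModEt X}
    [M.IsFinitePresentation] [Q.IsQuasicoherent] (π : M ⟶ Q) [Epi π] : Q.IsFinitePresentation := by
  refine (isFinitePresentation_iff hX Q).2 ⟨inferInstance, fun E hE => ?_⟩
  have := finite_sec M E hE
  exact Module.Finite.of_surjective (smap (EtOver.toScheme X) π E)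
    (surjective_of_epi (T := EtOver.toScheme X) (isQC M) (isQC Q) π E hE)

instance isQuasicoherent_kernel {M N : ModEt X} [M.IsQuasicoherent] [N.IsQuasicoherent]
    (φ : M ⟶ N) : (kernel φ).IsQuasicoherent :=
  (isQuasicoherent_iff (EtOver.toScheme X) _).2
    (isQC_kernel (isQC M) (isQC N) (kernel.ι φ) φ (kernel.condition φ) (kernelIsKernel φ))

instance isQuasicoherent_cokernel {M N : ModEt X} [M.IsQuasicoherent] [N.IsQuasicoherent]
    (φ : M ⟶ N) : (cokernel φ).IsQuasicoherent :=
  (isQuasicoherent_iff (EtOver.toScheme X) _).2
    (isQC_cokernel (isQC M) (isQC N) φ (cokernel.π φ) (cokernel.condition φ)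
      (cokernelIsCokernel φ))

/-- Extensions of coherent modules. -/
theorem isFinitePresentation_of_shortExact (hX : IsLocNoethSp X)
    (T : ShortComplex (ModEt X)) (hT : T.ShortExact)
    [T.X₁.IsFinitePresentation] [T.X₃.IsFinitePresentation] : T.X₂.IsFinitePresentation := by
  have h1 := isQC T.X₁
  have h3 := isQC T.X₃
  have h2 : IsQC (EtOver.toScheme X) T.X₂.val := isQC_X₂ hT h1 h3
  refine (isFinitePresentation_iff hX T.X₂).2
    ⟨(isQuasicoherent_iff (EtOver.toScheme X) _).2 h2, fun E hE => ?_⟩
  have e := leftExact_sections (T := EtOver.toScheme X) hT E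
  have := isNoetherianRing hX E hE
  have := isNoetherian_sec hX T.X₁ E hE
  have := isNoetherian_sec hX T.X₃ E hE
  have := isNoetherian_of_range_eq_ker (smap (EtOver.toScheme X) T.f E)
    (smap (EtOver.toScheme X) T.g E) (LinearMap.exact_iff.1 e.2).symm
  infer_instance

end K751.Coh
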