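import Groth.Agent.AlgSp.K751.Coh
import Groth.Agent.AlgSp.K643.CechX
import Groth.Agent.AlgSp.K644.PtCover
import Mathlib.CategoryTheory.Subobject.Basic

/-!
# The ascending chain condition for quasi-coherent submodules of a coherent module

`epi_of_surjective_cover`: a morphism of quasi-coherent modules which is surjective on the
sections over a surjective affine object is an epimorphism.
-/

set_option autoImplicit false

universe u

open CategoryTheory CategoryTheory.Limits AlgebraicGeometry Opposite

namespace K751.Acc

open AlgSp K644.Site K644.Psh K644.Exact K644.EtSite K644.QCoh K644.Chart K644.Fin K644.ChartFin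
  K644.Ses Groth.Agent.Etbase.FFExact K751.Coh

variable {S : Scheme.{u}} {X : Sp S}

/-- A quasi-coherent module with trivial sections over a surjective affine object is trivial. -/
theorem subsingleton_sec (M : ModEt X) [M.IsQuasicoherent] {E : EtOver X}
    (hE : IsAffine E.obj.left.left) (hs : RepWith @Surjective E.obj.hom)
    (h : Subsingleton (sec M E)) (U : EtOver X) : Subsingleton (sec M U) := by
  have key : ∀ x : sec M U, x = 0 := fun x => by
    refine ext_of_mem (J := etTop X) (K644.PtCover.coversTop_of_surjective E hs U) x 0 ?_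
    intro V f hf
    obtain ⟨i, ⟨e⟩⟩ := (Sieve.mem_ofObjects_iff ..).mp hf
    refine ext_affine (T := EtOver.toScheme X) _ _ fun W g hW => ?_
    have hb := isBC_of_isQuasicoherent M (g ≫ e) hE hW
    have h0 : (LinearMap.id : sec M W →ₗ[Γ((EtOver.toScheme X).obj W, ⊤)] sec M W) = 0 := by
      refine K644.Alg.IsBC.hom_ext hb _ _ fun m => ?_
      have : m = 0 := Subsingleton.elim (α := sec M E) m 0
      subst this
      rw [map_zero]
      rfl
    have h1 : ∀ y : sec M W, y = 0 := fun y => LinearMap.congr_fun h0 y
    rw [h1 (res M g _), h1 (res M g (res M f 0))]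
  exact ⟨fun x y => (key x).trans (key y).symm⟩

/-- A morphism of quasi-coherent modules which is surjective on the sections over a surjective
affine object is an epimorphism. -/
theorem epi_of_surjective_cover {M N : ModEt X} [M.IsQuasicoherent] [N.IsQuasicoherent]
    (φ : M ⟶ N) {E : EtOver X} (hE : IsAffine E.obj.left.left)
    (hs : RepWith @Surjective E.obj.hom)
    (h : Function.Surjective (smap (EtOver.toScheme X) φ E)) : Epi φ := by
  have hC := exact_cokernel (T := EtOver.toScheme X) (isQC M) (isQC N) φ (cokernel.π φ)
    (cokernel.condition φ) (cokernelIsCokernel φ) E hE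
  have h0 : Subsingleton (sec (cokernel φ) E) := by
    have key : ∀ x : sec (cokernel φ) E, x = 0 := fun x => by
      obtain ⟨y, rfl⟩ := hC.2 x
      exact (hC.1 y).2 (h y)
    exact ⟨fun x y => (key x).trans (key y).symm⟩
  have h1 := subsingleton_sec (cokernel φ) hE hs h0
  have h2 : cokernel.π φ = 0 :=
    hom_ext_affine (T := EtOver.toScheme X) _ _ fun U _ x => (h1 U).elim _ _
  exact Preadditive.epi_of_cokernel_zero h2

/-- Increasing chains of quasi-coherent submodules of a coherent module stabilise. -/
theorem stabilizes (hqc : IsQuasiCompactSp X) (hN : IsLocNoethSp X) (M : ModEt X)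
    [M.IsFinitePresentation] (N : ℕ →o Subobject M)
    (hq : ∀ n, (Subobject.underlying.obj (N n)).IsQuasicoherent) :
    ∃ n, ∀ m, n ≤ m → N m = N n := by
  obtain ⟨E, hE, hs⟩ := K643.CechX.exists_affine_surj hqc
  have hnoe := isNoetherian_sec hN M E hE
  let A : ℕ →o Submodule Γ((EtOver.toScheme X).obj E, ⊤) (sec M E) :=
    { toFun := fun n => LinearMap.range (smap (EtOver.toScheme X) (N n).arrow E)
      monotone' := by
        rintro a b hab _ ⟨x, rfl⟩
        refine ⟨smap (EtOver.toScheme X) (Subobject.ofLE _ _ (N.monotone hab)) E x, ?_⟩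
        rw [← smap_comp, Subobject.ofLE_arrow] }
  obtain ⟨n, hn⟩ := monotone_stabilizes_iff_noetherian.2 hnoe A
  refine ⟨n, fun m hm => ?_⟩
  have hle : N n ≤ N m := N.monotone hm
  refine le_antisymm ?_ hle
  let φ := Subobject.ofLE (N n) (N m) hle
  have := hq n
  have := hq m
  have hφ : Epi φ := by
    refine epi_of_surjective_cover φ hE hs fun y => ?_
    have h1 : smap (EtOver.toScheme X) (N m).arrow E y ∈ A n := by
      rw [hn m hm]
      exact ⟨y, rfl⟩
    obtain ⟨x, hx⟩ := h1
    refine ⟨x, injective_of_mono (N m).arrow E ?_⟩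
    rw [← smap_comp, Subobject.ofLE_arrow]
    exact hx
  have : IsIso φ := isIso_of_mono_of_epi φ
  refine Subobject.le_of_comm (inv φ) ?_
  rw [IsIso.inv_comp_eq]
  exact (Subobject.ofLE_arrow hle).symm

end K751.Acc
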