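import Groth.Agent.AlgSp.K751.Serre
import Groth.Agent.S10375
import Groth.Agent.S10753
import Groth.Agent.S9926
import Groth.Agent.S9906
import Groth.Agent.AlgSp.K608.SepAbs
import Groth.Agent.AlgSp.K597.Proper
import Groth.Agent.AlgSp.K596.QC2
import Groth.Agent.AlgSp.K634.FiniteMor

/-!
# Serre's criterion for algebraic spaces: an affine integral cover

`exists_cover`: a qcqs space with vanishing `H^1` of quasi-coherent modules has an integral
surjective cover by an affine scheme. Consequently it is separated.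
-/

set_option autoImplicit false

universe u

open CategoryTheory CategoryTheory.Limits AlgebraicGeometry Opposite

namespace K751.Aff

open AlgSp

variable {S : Scheme.{u}}

theorem isSeparatedSp_yon {Y : Over S} (h : IsSeparated Y.hom) : IsSeparatedSp ((yon S).obj Y) :=
  (repWith_diag_yon_iff @IsClosedImmersion Y).2 (by
    have := h.1
    exact this)

theorem exists_cover [QuasiSeparatedSpace ↥S] (X : Space S)
    (hqc : IsQuasiCompactSp X.obj) (hqs : IsQuasiSeparatedSp X.obj)
    (h1 : ∀ M : ModEt X.obj, M.IsQuasicoherent → Subsingleton (HModEt X.obj M 1)) :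
    ∃ (Y : Over S) (g : (ofScheme S).obj Y ⟶ X), IsAffine Y.left ∧
      RepWith @IsIntegralHom g.hom ∧ RepWith @Surjective g.hom := by
  obtain ⟨U, b, hb, hbs⟩ := X.property.atlas
  obtain ⟨Y, g, hg, hgs, -⟩ := Groth.Agent.S10375.result X hqc hqs b hb hbs
  let g' : (ofScheme S).obj Y ⟶ X := ObjectProperty.homMk g
  have haff : IsAffineMor g := K634.FiniteMor.isAffineMor_of_isIntegralMor
    (K634.FiniteMor.isIntegralMor_iff.2 hg)
  have hqc' : IsQuasiCompactSp ((yon S).obj Y) :=
    K596.QC.isQuasiCompactSp_of_repWith hqc (g := g) ⟨hg.1, fun _ _ _ _ _ sq => by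
      have h := hg.2 _ _ _ sq
      change IsIntegralHom _ at h
      change QuasiCompact _
      infer_instance⟩
  have := K596.QC.compactSpace_of_isQuasiCompactSp hqc'
  have h2 : IsAffine Y.left := Serre.isAffine_of_h1 (Y := Y) fun M hM =>
    @Groth.Agent.S10753.result _ _ _ _ hqc hqs h1 g' haff M hM
  exact ⟨Y, g', h2, hg, hgs⟩

theorem isSeparatedSp_of_cover (X : Space S) {Y : Over S} (g : (ofScheme S).obj Y ⟶ X)
    (hY : IsAffine Y.left) (hg : RepWith @IsIntegralHom g.hom) (hgs : RepWith @Surjective g.hom) :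
    IsSeparatedSp X.obj := by
  let B : Space S := (ofScheme S).obj (Over.mk (𝟙 S))
  let q : X ⟶ B := ObjectProperty.homMk ((K596.QC2.isTerminalYon S).from X.obj)
  have hY' : IsSeparated Y.hom := by
    have h : IsSeparated (Y.hom ≫ terminal.from S) := by
      rw [terminal.comp_from]
      infer_instance
    exact IsSeparated.of_comp Y.hom (terminal.from S)
  have h1 : IsSeparatedMor (g ≫ q).hom :=
    K608.SepAbs.isSeparatedMor_of_isSeparatedSp _ (isSeparatedSp_yon hY')
  have h2 : IsUnivClosedMor g.hom :=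
    (K597.Proper.isIntegralMor_iff_affine_univClosed.1 (K634.FiniteMor.isIntegralMor_iff.2 hg)).2
  have h3 : IsSurjectiveMor g.hom := (Groth.Agent.S9906.result g hg.1).1 hgs
  have h4 : IsSeparatedMor q.hom := (Groth.Agent.S9926.result g (g ≫ q) q rfl h3 h2).2 h1
  exact K608.SepAbs.isSeparatedSp_of_isSeparatedMor q.hom h4 (isSeparatedSp_yon (by
    dsimp; infer_instance))

theorem isSeparatedSp_of_h1 [QuasiSeparatedSpace ↥S] (X : Space S)
    (hqc : IsQuasiCompactSp X.obj) (hqs : IsQuasiSeparatedSp X.obj)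
    (h1 : ∀ M : ModEt X.obj, M.IsQuasicoherent → Subsingleton (HModEt X.obj M 1)) :
    IsSeparatedSp X.obj := by
  obtain ⟨Y, g, hY, hg, hgs⟩ := exists_cover X hqc hqs h1
  exact isSeparatedSp_of_cover X g hY hg hgs

/-- The cover in the form needed for the theorem of Chevalley. -/
theorem exists_univClosed_cover [QuasiSeparatedSpace ↥S] (X : Space S)
    (hqc : IsQuasiCompactSp X.obj) (hqs : IsQuasiSeparatedSp X.obj)
    (h1 : ∀ M : ModEt X.obj, M.IsQuasicoherent → Subsingleton (HModEt X.obj M 1)) :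
    ∃ (Y : Over S) (g : (ofScheme S).obj Y ⟶ X), IsAffine Y.left ∧
      IsSurjectiveMor g.hom ∧ IsUnivClosedMor g.hom := by
  obtain ⟨Y, g, hY, hg, hgs⟩ := exists_cover X hqc hqs h1
  exact ⟨Y, g, hY, (Groth.Agent.S9906.result g hg.1).1 hgs,
    (K597.Proper.isIntegralMor_iff_affine_univClosed.1 (K634.FiniteMor.isIntegralMor_iff.2 hg)).2⟩

end K751.Aff
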