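import Groth.Agent.AlgSp.K751.Coh
import Groth.Agent.AlgSp.K617.PushQc

/-!
# Direct images of coherent modules along finite morphisms
-/

set_option autoImplicit false

universe u

open CategoryTheory CategoryTheory.Limits AlgebraicGeometry Opposite

namespace K751.PushFin

open AlgSp K644.Site K644.Psh K644.Exact K644.EtSite K644.QCoh K644.Chart K644.Fin K644.ChartFin
  K644.Ses Groth.Agent.Etbase.FFExact K751.Coh

variable {S : Scheme.{u}} {X Y : Sp S} {f : X ⟶ Y}

theorem finite_of_semilinear {A B : Type*} [CommRing A] [CommRing B] (φ : A →+* B)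
    (hφ : φ.Finite) {M N : Type*} [AddCommGroup M] [AddCommGroup N] [Module A M] [Module B N]
    [Module.Finite B N] (e : M ≃+ N) (he : ∀ (a : A) (m : M), e (a • m) = φ a • e m) :
    Module.Finite A M := by
  let := φ.toAlgebra
  let : Module A N := Module.compHom N φ
  have : IsScalarTower A B N := ⟨fun a b m => by
    change (φ a * b) • m = φ a • b • m
    rw [mul_smul]⟩
  have : Module.Finite A B := hφ
  have : Module.Finite A N := Module.Finite.trans B N
  let e' : M ≃ₗ[A] N := { e with map_smul' := he }
  exact Module.Finite.equiv e'.symm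

theorem appTop_finite {U V : Scheme.{u}} [IsAffine U] [IsAffine V] (g : U ⟶ V) [IsFinite g] :
    g.appTop.hom.Finite :=
  IsFinite.finite_app (f := g) ⊤ (isAffineOpen_top _)

/-- Sections of the direct image over an affine object. -/
theorem finite_sec_push (hf : Representable f) (hfin : IsFiniteMor f) (M : ModEt X)
    (E : EtOver Y) (hE : IsAffine E.obj.left.left)
    (h : Module.Finite Γ((EtOver.toScheme X).obj ((EtOver.bc hf).obj E), ⊤)
      (sec M ((EtOver.bc hf).obj E))) :
    Module.Finite Γ((EtOver.toScheme Y).obj E, ⊤) (sec ((pushModEt hf).obj M) E) := by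
  have h1 := K648.Push.isAffine_bc hf (K648.Push.isAffineMor_of_isFiniteMor hfin) E hE
  have h2 : IsFinite (EtOver.bcπ hf E).left := K648.Push.isFinite_bcπ hf hfin E hE
  exact finite_of_semilinear (A := Γ((EtOver.toScheme Y).obj E, ⊤))
    (B := Γ((EtOver.toScheme X).obj ((EtOver.bc hf).obj E), ⊤))
    (M := sec ((pushModEt hf).obj M) E) (N := sec M ((EtOver.bc hf).obj E))
    (EtOver.bcπ hf E).left.appTop.hom
    (@appTop_finite _ _ h1 hE _ h2) (AddEquiv.refl (sec M ((EtOver.bc hf).obj E)))
    (fun a m => K648.Push.pushSec_smul hf M E a m)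

theorem isFinitePresentation_push (hf : Representable f) (hfin : IsFiniteMor f)
    (hY : IsLocNoethSp Y) (M : ModEt X) [M.IsFinitePresentation] :
    ((pushModEt hf).obj M).IsFinitePresentation := by
  have haff := K648.Push.isAffineMor_of_isFiniteMor hfin
  refine (isFinitePresentation_iff hY _).2 ⟨K617.PushQc.isQuasicoherent_push hf haff M, ?_⟩
  intro E hE
  exact finite_sec_push hf hfin M E hE
    (finite_sec M ((EtOver.bc hf).obj E) (K648.Push.isAffine_bc hf haff E hE))

end K751.PushFin
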