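import Groth.Agent.AlgSp.K751.Coh
import Groth.Agent.AlgSp.K617.PushQc
import Groth.Agent.AlgSp.K643.Term
import Groth.Agent.Fga.Torsor
import Groth.Agent.CohqA.IdealMod
import Mathlib.Algebra.Category.ModuleCat.Sheaf.PullbackFree

/-!
# Serre's affineness criterion on the small étale site

`isAffine_of_h1`: a quasi-compact scheme `Y` over `S` such that `H^1` of all quasi-coherent modules
on the small étale site of `h_Y` vanishes is affine.
-/

set_option autoImplicit false

universe u

open CategoryTheory CategoryTheory.Limits AlgebraicGeometry Opposite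

namespace K751.Serre

open AlgSp K644.Site K644.Psh K644.Exact K644.EtSite K644.QCoh K644.Chart K644.Fin K644.ChartFin
  K644.Ses Groth.Agent.Etbase.FFExact K751.Coh

variable {S : Scheme.{u}}

section push

variable {X Y : Sp S} {f : X ⟶ Y}

/-- The comparison `O_Y ⟶ f_* O_X`. -/
noncomputable def unitPush (hf : Representable f) : unitModEt Y ⟶ (pushModEt hf).obj (unitModEt X) :=
  SheafOfModules.unitToPushforwardObjUnit (bcRingHom hf)

theorem unitPush_surjective (hf : Representable f) (hc : RepWith @IsClosedImmersion f)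
    (E : EtOver Y) (hE : IsAffine E.obj.left.left) :
    Function.Surjective (smap (EtOver.toScheme Y) (unitPush hf) E) := by
  have h1 : IsClosedImmersion (EtOver.bcπ hf E).left := hc.2 _ _ _ (EtOver.isPullback_bcObj hf E)
  have hE' : IsAffine E.obj.left.left := hE
  have h2 : Function.Surjective (EtOver.bcπ hf E).left.appTop :=
    (IsClosedImmersion.isAffine_surjective_of_isAffine (f := (EtOver.bcπ hf E).left)).2
  intro y
  obtain ⟨x, hx⟩ := h2 (ULift.down (show ULift.{u + 1} Γ((EtOver.bcObj hf E).obj.left.left, ⊤) from y))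
  refine ⟨(ULift.up x : ULift.{u + 1} Γ(E.obj.left.left, ⊤)), ?_⟩
  exact congrArg (ULift.up.{u + 1}) hx

theorem isQuasicoherent_unit (X : Sp S) : (unitModEt X).IsQuasicoherent :=
  (isQuasicoherent_iff_isCart _).2 K617.PushQc.isCart_unit

theorem isAffineMor_of_closed (hc : RepWith @IsClosedImmersion f) : IsAffineMor f := by
  intro Z hZ g
  let W := hc.1.pullback g
  have sq : IsPullback (hc.1.fst g) ((yon S).map (hc.1.snd g)) f g := hc.1.isPullback g
  have h1 : IsClosedImmersion (hc.1.snd g).left := hc.2 _ _ _ sq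
  have : IsAffine Z.left := hZ
  exact ⟨W, hc.1.snd g, hc.1.fst g, sq, isAffine_of_isAffineHom (hc.1.snd g).left⟩

/-- If `H^1` of quasi-coherent modules vanishes, then global functions extend from closed
subspaces, over a terminal object. -/
theorem unitPush_surjective_of_h1
    (h1 : ∀ M : ModEt Y, M.IsQuasicoherent → Subsingleton (HModEt Y M 1))
    (hf : Representable f) (hc : RepWith @IsClosedImmersion f) {E : EtOver Y} (hE : IsTerminal E) :
    Function.Surjective (smap (EtOver.toScheme Y) (unitPush hf) E) := by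
  have hq1 := isQuasicoherent_unit Y
  have hq2 : ((pushModEt hf).obj (unitModEt X)).IsQuasicoherent :=
    have := isQuasicoherent_unit X
    K617.PushQc.isQuasicoherent_push hf (isAffineMor_of_closed hc) _
  have he : Epi (unitPush hf) := epi_of_affine (T := EtOver.toScheme Y) _ (unitPush_surjective hf hc)
  let T : ShortComplex (ModEt Y) := ShortComplex.mk (kernel.ι (unitPush hf)) (unitPush hf)
    (kernel.condition _)
  have hT : T.ShortExact :=
    { exact := ShortComplex.exact_kernel _
      mono_f := inferInstanceAs (Mono (kernel.ι (unitPush hf)))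
      epi_g := he }
  exact Groth.Agent.Fga.Torsor.surjective_of_H1 hE (shortExact_toSheaf hT)
    (h1 _ (isQuasicoherent_kernel (unitPush hf)))

end push

variable {Y : Over S}

/-- The terminal object of the small étale site of a scheme. -/
noncomputable def top (Y : Over S) : EtOver ((yon S).obj Y) :=
  EtOver.mk (U := Y) (𝟙 _) (by
    have := (repWith_yon_map_iff @Etale (𝟙 Y)).2 (by dsimp; infer_instance)
    rwa [(yon S).map_id] at this)

instance : IsIso (top Y).obj.hom := inferInstanceAs (IsIso (𝟙 ((yon S).obj Y)))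

theorem aux {A B C : Scheme.{u}} (e : A ⟶ B) [IsIso e] (i : B ⟶ C) (p : A ⟶ C) (hp : p = e ≫ i)
    (y : Γ(C, ⊤)) (z : Γ(B, ⊤)) (h : p.appTop y = e.appTop z) : i.appTop y = z := by
  subst hp
  rw [Scheme.Hom.comp_appTop] at h
  have h1 : IsIso (e.appTop) := inferInstanceAs (IsIso (e.app ⊤))
  exact (ConcreteCategory.bijective_of_isIso e.appTop).1 h

theorem appTop_surjective
    (h1 : ∀ M : ModEt ((yon S).obj Y), M.IsQuasicoherent → Subsingleton (HModEt _ M 1))
    {Z : Scheme.{u}} (i : Z ⟶ Y.left) [IsClosedImmersion i] : Function.Surjective i.appTop := by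
  let Z' : Over S := Over.mk (i ≫ Y.hom)
  let g : Z' ⟶ Y := Over.homMk i rfl
  let f := (yon S).map g
  have hc : RepWith @IsClosedImmersion f := (repWith_yon_map_iff _ g).2 (inferInstanceAs (IsClosedImmersion i))
  have hs := unitPush_surjective_of_h1 h1 hc.1 hc (K643.Term.isTerminalOfIsIso (top Y))
  have sq := EtOver.isPullback_bcObj hc.1 (top Y)
  have hiso : IsIso ((EtOver.bc hc.1).obj (top Y)).obj.hom :=
    sq.isIso_fst_of_isIso
  let e : (EtOver.bcObj hc.1 (top Y)).obj.left ⟶ Z' := (yon S).preimage (EtOver.bcObj hc.1 (top Y)).obj.hom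
  have he : (yon S).map e = (EtOver.bcObj hc.1 (top Y)).obj.hom := (yon S).map_preimage _
  have he' : IsIso e := by
    have : IsIso ((yon S).map e) := by rw [he]; exact hiso
    exact isIso_of_reflects_iso e (yon S)
  have he2 : IsIso e.left := inferInstanceAs (IsIso ((Over.forget S).map e))
  have hw : e ≫ g = EtOver.bcπ hc.1 (top Y) := by
    apply (yon S).map_injective
    rw [Functor.map_comp, he]
    exact sq.w.trans (Category.comp_id _)
  have hw' : (EtOver.bcπ hc.1 (top Y)).left = e.left ≫ i := by rw [← hw]; rfl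
  intro z
  obtain ⟨y, hy⟩ := hs (ULift.up (e.left.appTop z) :
    ULift.{u + 1} Γ((EtOver.bcObj hc.1 (top Y)).obj.left.left, ⊤))
  refine ⟨ULift.down (show ULift.{u + 1} Γ(Y.left, ⊤) from y), ?_⟩
  exact aux e.left i (EtOver.bcπ hc.1 (top Y)).left hw' _ z (congrArg ULift.down.{u + 1, u} hy)

/-- Serre's criterion. -/
theorem isAffine_of_h1 [CompactSpace Y.left]
    (h1 : ∀ M : ModEt ((yon S).obj Y), M.IsQuasicoherent → Subsingleton (HModEt _ M 1)) :
    IsAffine Y.left := by
  refine Groth.Agent.CohqA.AffCrit.isAffine_of_liftProp fun K => ?_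
  intro ι _ U hU s hs
  obtain ⟨t, ht⟩ := Groth.Agent.CohqA.H1Lift.exists_lift_of_compatible (ClSub.toSubscheme K)
    (appTop_surjective h1 K.subschemeι)
    (fun i ↦ (U i).1) hU.ge (fun i ↦ le_top) s (by
      intro i j V hi hj
      exact (Groth.Agent.CohqA.IdealMod.toSubscheme_app_eq_iff K V _ _).mpr (hs i j V hi hj))
  exact ⟨t, fun i ↦ (Groth.Agent.CohqA.IdealMod.toSubscheme_app_eq_iff K (U i) _ _).mp (ht i)⟩

end K751.Serre
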